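import Mathlib

/-!
# S3691: arithmetic for the row `PSL_n(q)` (helper2, for helper851)
-/

set_option autoImplicit false

namespace Cfsg.Agent.H2.Rl

/-- `4 f ≤ 2 q` -/
theorem four_mul_le {p f q : ℕ} (hq : q = p ^ f) (hp : 2 ≤ p) (hf : 1 ≤ f) : 4 * f ≤ 2 * q := by
  have h1 : ∀ f : ℕ, 1 ≤ f → 2 * f ≤ 2 ^ f := by
    intro f hf
    induction f, hf using Nat.le_induction with
    | base => norm_num
    | succ f hf ih => rw [pow_succ]; omega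
  have h2 : 2 ^ f ≤ q := by rw [hq]; exact Nat.pow_le_pow_left hp f
  have := h1 f hf
  omega

theorem two_le_q {p f q : ℕ} (hq : q = p ^ f) (hp : 2 ≤ p) (hf : 1 ≤ f) : 2 ≤ q := by
  have := four_mul_le hq hp hf
  omega

theorem two_pow_gt (n : ℕ) (hn : 9 ≤ n) : 2 * n < 2 ^ (n - 4) := by
  induction n, hn using Nat.le_induction with
  | base => norm_num
  | succ n hn ih =>
    have h1 : n + 1 - 4 = (n - 4) + 1 := by omega
    rw [h1, pow_succ]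
    omega

/-- the common step -/
theorem step {f q c n E D N : ℕ} (h4 : 4 * f ≤ 2 * q) (hq : 2 ≤ q) (hn : 9 ≤ n) (hc : c ≤ n) (hD : n - 3 ≤ D)
    (hN : N = E + D) : 4 * f * (c * q ^ E) < q ^ N := by
  subst hN
  have h1 := two_pow_gt n hn
  have h2 : 2 ^ (n - 4) ≤ q ^ (n - 4) := Nat.pow_le_pow_left hq _
  have h3 : 4 * f * c < q ^ D := by
    calc 4 * f * c ≤ 2 * q * n := Nat.mul_le_mul h4 hc
      _ = q * (2 * n) := by ring
      _ < q * q ^ (n - 4) := Nat.mul_lt_mul_of_pos_left (h1.trans_le h2) (by omega)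
      _ = q ^ (n - 3) := by rw [← pow_succ']; congr 1; omega
      _ ≤ q ^ D := Nat.pow_le_pow_right (by omega) hD
  have hE : 0 < q ^ E := Nat.pos_of_ne_zero (by positivity)
  calc 4 * f * (c * q ^ E) = q ^ E * (4 * f * c) := by ring
    _ < q ^ E * q ^ D := Nat.mul_lt_mul_of_pos_left h3 hE
    _ = q ^ (E + D) := (pow_add _ _ _).symm

theorem num_even {p f n q : ℕ} (hq : q = p ^ f) (hp : 2 ≤ p) (hf : 1 ≤ f) (hn : Even n) (h10 : 10 ≤ n)
    (_h3 : n = 10 → 3 ≤ q) :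
    4 * f * (q ^ (n * (n + 1) / 2 + 1) * (q ^ (n - 1) * ((n - 1) * q ^ ((n - 1) ^ 2 / 3)))) < q ^ (n ^ 2 - 1) := by
  have h4 := four_mul_le hq hp hf
  have h2 := two_le_q hq hp hf
  have h5 : 4 * f * (q ^ (n * (n + 1) / 2 + 1) * (q ^ (n - 1) * ((n - 1) * q ^ ((n - 1) ^ 2 / 3)))) =
      4 * f * ((n - 1) * q ^ ((n * (n + 1) / 2 + 1) + (n - 1) + (n - 1) ^ 2 / 3)) := by
    rw [pow_add, pow_add]; ring
  rw [h5]
  obtain ⟨a, rfl⟩ := hn
  have ha : 5 ≤ a := by omega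
  have e1 : (a + a) * (a + a + 1) / 2 = 2 * (a * a) + a := by
    have : (a + a) * (a + a + 1) = 2 * (2 * (a * a) + a) := by ring
    rw [this, Nat.mul_div_cancel_left _ (by norm_num)]
  have e2 : (a + a - 1) ^ 2 + 4 * a = 4 * (a * a) + 1 := by
    obtain ⟨b, rfl⟩ : ∃ b, a = b + 1 := ⟨a - 1, by omega⟩
    have : b + 1 + (b + 1) - 1 = 2 * b + 1 := by omega
    rw [this]; ring
  have e3 : (a + a) ^ 2 = 4 * (a * a) := by ring
  have e4 : 11 * a ≤ 2 * (a * a) + 5 := by nlinarith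
  rw [e1, e3]
  generalize (a + a - 1) ^ 2 = x at e2 ⊢
  generalize a * a = b at e2 e4 ⊢
  refine step (n := a + a) (D := 4 * b - 1 - (2 * b + a + 1 + (a + a - 1) + x / 3)) h4 h2 (by omega) (by omega) ?_ ?_
  · omega
  · omega

theorem num_ten {p f q : ℕ} (hq : q = p ^ f) (hp : 2 ≤ p) (hf : 1 ≤ f) (h3 : 3 ≤ q) :
    4 * f * (q ^ 56 * (q ^ 9 * ((q - 1) * 235146240))) < q ^ 99 := by
  have h4 := four_mul_le hq hp hf
  have h5 : 3 ^ 20 ≤ q ^ 20 := Nat.pow_le_pow_left h3 20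
  have h6 : 2 * 235146240 < q ^ 20 := lt_of_lt_of_le (by norm_num) h5
  have hq0 : 0 < q := by omega
  calc 4 * f * (q ^ 56 * (q ^ 9 * ((q - 1) * 235146240))) ≤ 2 * q * (q ^ 56 * (q ^ 9 * (q * 235146240))) :=
        Nat.mul_le_mul h4 (Nat.mul_le_mul_left _ (Nat.mul_le_mul_left _ (Nat.mul_le_mul_right _ (Nat.sub_le _ _))))
    _ = q ^ 67 * (2 * 235146240) := by ring
    _ < q ^ 67 * q ^ 20 := Nat.mul_lt_mul_of_pos_left h6 (by positivity)
    _ = q ^ 87 := by rw [← pow_add]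
    _ ≤ q ^ 99 := Nat.pow_le_pow_right hq0 (by norm_num)

theorem num_odd {p f n q : ℕ} (hq : q = p ^ f) (hp : 2 ≤ p) (hf : 1 ≤ f) (hn : Odd n) (h11 : 11 ≤ n) :
    4 * f * ((n * q ^ (n ^ 2 / 3)) * q ^ ((n ^ 2 + n) / 2)) < q ^ (n ^ 2 - 1) := by
  have h4 := four_mul_le hq hp hf
  have h2 := two_le_q hq hp hf
  have h5 : 4 * f * ((n * q ^ (n ^ 2 / 3)) * q ^ ((n ^ 2 + n) / 2)) =
      4 * f * (n * q ^ (n ^ 2 / 3 + (n ^ 2 + n) / 2)) := by
    rw [pow_add]; ring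
  rw [h5]
  obtain ⟨a, rfl⟩ := hn
  have ha : 5 ≤ a := by omega
  have e3 : (2 * a + 1) ^ 2 = 4 * (a * a) + 4 * a + 1 := by ring
  have e4 : 7 * a ≤ 2 * (a * a) + 2 := by nlinarith
  rw [e3]
  generalize a * a = b at e4 ⊢
  refine step (n := 2 * a + 1)
    (D := 4 * b + 4 * a + 1 - 1 - ((4 * b + 4 * a + 1) / 3 + (4 * b + 4 * a + 1 + (2 * a + 1)) / 2)) h4 h2 (by omega)
    le_rfl ?_ ?_
  · omega
  · omega

theorem ext_le_even {n q s : ℕ} (hq : 2 ≤ q) (hs : s.Prime) (hsn : s ∣ n) (hn : Even n) (h10 : 10 ≤ n) :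
    s * q ^ (n ^ 2 / s) ≤ q ^ (n * (n + 1) / 2 + 1) := by
  have hsn' : s ≤ n := Nat.le_of_dvd (by omega) hsn
  have e1 : n * (n + 1) / 2 = (n ^ 2 + n) / 2 := by congr 1; ring
  rw [e1]
  rcases (show s = 2 ∨ 3 ≤ s by have := hs.two_le; omega) with rfl | h3
  · calc 2 * q ^ (n ^ 2 / 2) ≤ q * q ^ (n ^ 2 / 2) := Nat.mul_le_mul_right _ hq
      _ = q ^ (n ^ 2 / 2 + 1) := (pow_succ' _ _).symm
      _ ≤ q ^ ((n ^ 2 + n) / 2 + 1) := Nat.pow_le_pow_right (by omega) (by omega)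
  · have h4 : n ^ 2 / s ≤ n ^ 2 / 3 := Nat.div_le_div_left h3 (by norm_num)
    have h5 : n < 2 ^ n := Nat.lt_two_pow_self
    have h6 : 2 ^ n ≤ q ^ n := Nat.pow_le_pow_left hq n
    have h7 : 10 * n ≤ n ^ 2 := by nlinarith
    calc s * q ^ (n ^ 2 / s) ≤ q ^ n * q ^ (n ^ 2 / 3) :=
          Nat.mul_le_mul (hsn'.trans (h5.le.trans h6)) (Nat.pow_le_pow_right (by omega) h4)
      _ = q ^ (n + n ^ 2 / 3) := (pow_add _ _ _).symm
      _ ≤ q ^ ((n ^ 2 + n) / 2 + 1) := Nat.pow_le_pow_right (by omega) (by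
          generalize n ^ 2 = x at h7 ⊢
          omega)

theorem ext_le_odd {n q s : ℕ} (hq : 2 ≤ q) (hs : s.Prime) (hsn : s ∣ n) (hn : Odd n) :
    s * q ^ (n ^ 2 / s) ≤ n * q ^ (n ^ 2 / 3) := by
  have hn0 : 0 < n := hn.pos
  have h3 : 3 ≤ s := by
    have h1 := hs.two_le
    rcases h1.eq_or_lt with h2 | h2
    · subst h2
      exact absurd (even_iff_two_dvd.2 hsn) (Nat.not_even_iff_odd.2 hn)
    · exact h2
  exact Nat.mul_le_mul (Nat.le_of_dvd hn0 hsn)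
    (Nat.pow_le_pow_right (by omega) (Nat.div_le_div_left h3 (by norm_num)))

end Cfsg.Agent.H2.Rl
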